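import Groth.Agent.H15Site.SetDescent.Exact

/-!
# Exactness of global sections and full faithfulness on descent data
-/

set_option autoImplicit false
set_option linter.unusedSectionVars false
set_option linter.style.haveILetI false
set_option backward.isDefEq.respectTransparency false
set_option backward.isDefEq.respectTransparency.types false
set_option maxHeartbeats 800000

universe u

open CategoryTheory CategoryTheory.Limits AlgebraicGeometry Opposite
open scoped Groth.Agent.H18Et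

namespace Groth.Agent.H15Site.SetDescent

open Groth.Agent.H18Et

variable {T S X X' : Scheme.{u}} (f : X' ⟶ X)

theorem map_map_eq {C : Type*} [Category C] (P : Cᵒᵖ ⥤ Type (u + 1)) {A B D : C} (a : A ⟶ B) (b : B ⟶ D)
    (c : A ⟶ D) (h : a ≫ b = c) (x : P.obj (op D)) : P.map a.op (P.map b.op x) = P.map c.op x := by
  rw [← Functor.map_comp_apply, ← op_comp, h]

theorem nat_app {C : Type*} [Category C] {P Q : Cᵒᵖ ⥤ Type (u + 1)} (v : Q ⟶ P) {A B : C} (m : A ⟶ B)
    (y : Q.obj (op B)) : v.app (op A) (Q.map m.op y) = P.map m.op (v.app (op B) y) :=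
  NatTrans.naturality_apply v m.op y

/-- Transfer at the terminal object. -/
theorem transfer_top (p : T ⟶ S) (a : S ⟶ X) (b : T ⟶ X) (w : p ≫ a = b) (G : EtDesc.Sh X)
    (x : ((EtDesc.pullSh a).obj G).obj.obj (op ((EtCoh.bc a).obj (EtCoh.top X)))) :
    transfer p a b w G (EtCoh.top X) x =
      ((EtDesc.pullSh b).obj G).obj.map (EtCore.bcTopIso b).hom.op
        ((EtDesc.pullVia p a b w G).hom.hom.app (op (EtCoh.top T))
          (EtDesc.secPull p ((EtDesc.pullSh a).obj G) (((EtDesc.pullSh a).obj G).obj.map (EtCore.bcTopIso a).inv.op x))) := by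
  let P := ((EtDesc.pullSh b).obj G).obj
  let Q := ((EtDesc.pullSh p).obj ((EtDesc.pullSh a).obj G)).obj
  let v := (EtDesc.pullVia p a b w G).hom.hom
  let y : Q.obj (op ((EtCoh.bc p).obj ((EtCoh.bc a).obj (EtCoh.top X)))) := pullSect p _ x
  let z := v.app (op ((EtCoh.bc p).obj ((EtCoh.bc a).obj (EtCoh.top X)))) y
  let m : EtCoh.top T ⟶ (EtCoh.bc p).obj ((EtCoh.bc a).obj (EtCoh.top X)) :=
    (EtCore.bcTopIso p).inv ≫ (EtCoh.bc p).map (EtCore.bcTopIso a).inv
  have h2 : EtDesc.secPull p ((EtDesc.pullSh a).obj G) (((EtDesc.pullSh a).obj G).obj.map (EtCore.bcTopIso a).inv.op x) =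
      Q.map m.op y :=
    (congrArg (Q.map (EtCore.bcTopIso p).inv.op) (pullSect_map p ((EtDesc.pullSh a).obj G) (EtCore.bcTopIso a).inv x)).trans
      (map_map_eq Q _ _ m rfl y)
  have h3 : v.app (op (EtCoh.top T)) (Q.map m.op y) = P.map m.op z := nat_app v m y
  have h4 : tm p a b w (EtCoh.top X) = (EtCore.bcTopIso b).hom ≫ m :=
    (IsTerminal.isTerminalObj (EtCoh.bc p) _ (EtCore.bcTopIsTerminal a)).hom_ext _ _
  refine Eq.trans ?_ (congrArg (P.map (EtCore.bcTopIso b).hom.op)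
    ((congrArg (v.app (op (EtCoh.top T))) h2).trans h3)).symm
  exact (map_map_eq P _ _ _ h4.symm z).symm

theorem comp_app {Z : Scheme.{u}} {F G H : EtDesc.Sh Z} (φ : F ⟶ G) (ψ : G ⟶ H) (U : Z.Etale)
    (s : F.obj.obj (op U)) : (φ ≫ ψ).hom.app (op U) s = ψ.hom.app (op U) (φ.hom.app (op U) s) := rfl

theorem push_map_app {Y Z : Scheme.{u}} (g : Z ⟶ Y) {F G : EtDesc.Sh Z} (φ : F ⟶ G) (U : Y.Etale)
    (s : ((EtDesc.pushSh g).obj F).obj.obj (op U)) :
    ((EtDesc.pushSh g).map φ).hom.app (op U) s = φ.hom.app (op ((EtCoh.bc g).obj U)) s := rfl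

theorem iso_app {Z : Scheme.{u}} {F G : EtDesc.Sh Z} (e : F ≅ G) (U : Z.Etale) (y : G.obj.obj (op U)) :
    e.hom.hom.app (op U) (e.inv.hom.app (op U) y) = y := by
  rw [← comp_app, e.inv_hom_id]
  rfl

theorem bijective_map_iso {C : Type*} [Category C] (P : Cᵒᵖ ⥤ Type (u + 1)) {A B : C} (e : A ≅ B) :
    Function.Bijective (P.map e.hom.op) :=
  (isIso_iff_bijective _).1 inferInstance

theorem secPull_eq {Y Z : Scheme.{u}} (g : Z ⟶ Y) (F : EtDesc.Sh Y) (s : F.obj.obj (op (EtCoh.top Y))) :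
    EtDesc.secPull g F s = ((EtDesc.pullSh g).obj F).obj.map (EtCore.bcTopIso g).inv.op (pullSect g F s) := rfl

theorem canIso_hom (F : EtDesc.Sh X) :
    (EtDesc.canIso f F).hom = (EtDesc.pullVia (pullback.fst f f) f (q₀ f) rfl F).hom ≫
      (EtDesc.pullVia (pullback.snd f f) f (q₀ f) pullback.condition.symm F).inv := by
  rw [EtDesc.canIso, Iso.trans_hom, Iso.symm_hom]

theorem iso_square {C : Type*} [Category C] {A₁ A₂ A B₁ B₂ B : C} (e₁ : A₁ ≅ A) (e₂ : A₂ ≅ A) (d₁ : B₁ ≅ B)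
    (d₂ : B₂ ≅ B) (x : A₁ ⟶ B₁) (y : A₂ ⟶ B₂) (h : (e₁.hom ≫ e₂.inv) ≫ y = x ≫ d₁.hom ≫ d₂.inv) :
    e₁.inv ≫ x ≫ d₁.hom = e₂.inv ≫ y ≫ d₂.hom := by
  rw [← cancel_mono d₂.inv]
  simp only [Category.assoc, Iso.hom_inv_id, Category.comp_id]
  rw [← h]
  simp only [Category.assoc, Iso.inv_hom_id_assoc]

theorem canIso_app (F : EtDesc.Sh X) (s : ((EtDesc.pullSh (pullback.fst f f)).obj ((EtDesc.pullSh f).obj F)).obj.obj
      (op (EtCoh.top (EtDesc.X2 f)))) :
    (EtDesc.canIso f F).hom.hom.app (op (EtCoh.top (EtDesc.X2 f))) s =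
      (EtDesc.pullVia (pullback.snd f f) f (q₀ f) pullback.condition.symm F).inv.hom.app _
        ((EtDesc.pullVia (pullback.fst f f) f (q₀ f) rfl F).hom.hom.app _ s) := by
  rw [show EtDesc.canIso f F = EtDesc.pullVia (pullback.fst f f) f (q₀ f) rfl F ≪≫
    (EtDesc.pullVia (pullback.snd f f) f (q₀ f) pullback.condition.symm F).symm from rfl, Iso.trans_hom,
    Iso.symm_hom, comp_app]

theorem key_iff {A B C D E : Type*} (can : B → C) (v₁ : B → D) (v₂ : C → D) (v₂' : D → C) (h : D → E)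
    (hcan : ∀ z, can z = v₂' (v₁ z)) (h₂ : ∀ c, v₂' (v₂ c) = c) (h₂' : ∀ d, v₂ (v₂' d) = d)
    (hh : Function.Injective h) (q₁ : A → B) (q₂ : A → C) (y : A) (t₁ t₂ : E) (ht₁ : t₁ = h (v₁ (q₁ y)))
    (ht₂ : t₂ = h (v₂ (q₂ y))) : can (q₁ y) = q₂ y ↔ t₁ = t₂ := by
  rw [hcan, ht₁, ht₂, hh.eq_iff]
  exact ⟨fun e => by rw [← e, h₂'], fun e => by rw [e, h₂]⟩

theorem iso_app' {Z : Scheme.{u}} {F G : EtDesc.Sh Z} (e : F ≅ G) (U : Z.Etale) (y : F.obj.obj (op U)) :
    e.inv.hom.app (op U) (e.hom.hom.app (op U) y) = y :=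
  iso_app e.symm U y

theorem can_eq_iff {p₁ p₂ : T ⟶ X'} {q : T ⟶ X} (w₁ : p₁ ≫ f = q) (w₂ : p₂ ≫ f = q) (F : EtDesc.Sh X)
    (can : (EtDesc.pullSh p₁).obj ((EtDesc.pullSh f).obj F) ≅ (EtDesc.pullSh p₂).obj ((EtDesc.pullSh f).obj F))
    (hcan : can = EtDesc.pullVia p₁ f q w₁ F ≪≫ (EtDesc.pullVia p₂ f q w₂ F).symm)
    (U : T.Etale) (hU : U = EtCoh.top T)
    (q₁ : ((EtDesc.pullSh f).obj F).obj.obj (op (EtCoh.top X')) →
      ((EtDesc.pullSh p₁).obj ((EtDesc.pullSh f).obj F)).obj.obj (op U))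
    (q₂ : ((EtDesc.pullSh f).obj F).obj.obj (op (EtCoh.top X')) →
      ((EtDesc.pullSh p₂).obj ((EtDesc.pullSh f).obj F)).obj.obj (op U))
    (h₁ : HEq q₁ (EtDesc.secPull p₁ ((EtDesc.pullSh f).obj F)))
    (h₂ : HEq q₂ (EtDesc.secPull p₂ ((EtDesc.pullSh f).obj F)))
    (x : ((EtDesc.pullSh f).obj F).obj.obj (op ((EtCoh.bc f).obj (EtCoh.top X)))) :
    can.hom.hom.app (op U) (q₁ (((EtDesc.pullSh f).obj F).obj.map (EtCore.bcTopIso f).inv.op x)) =
      q₂ (((EtDesc.pullSh f).obj F).obj.map (EtCore.bcTopIso f).inv.op x) ↔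
    transfer p₁ f q w₁ F (EtCoh.top X) x = transfer p₂ f q w₂ F (EtCoh.top X) x := by
  subst hU
  obtain rfl := eq_of_heq h₁
  obtain rfl := eq_of_heq h₂
  refine key_iff _ ((EtDesc.pullVia p₁ f q w₁ F).hom.hom.app (op (EtCoh.top T)))
    ((EtDesc.pullVia p₂ f q w₂ F).hom.hom.app (op (EtCoh.top T)))
    ((EtDesc.pullVia p₂ f q w₂ F).inv.hom.app (op (EtCoh.top T)))
    (((EtDesc.pullSh q).obj F).obj.map (EtCore.bcTopIso q).hom.op) (fun z => ?_)
    (iso_app' (EtDesc.pullVia p₂ f q w₂ F) _) (iso_app (EtDesc.pullVia p₂ f q w₂ F) _)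
    (bijective_map_iso ((EtDesc.pullSh q).obj F).obj (EtCore.bcTopIso q)).1
    _ _ _ _ _ (transfer_top p₁ f q w₁ F x) (transfer_top p₂ f q w₂ F x)
  subst hcan
  rw [Iso.trans_hom, Iso.symm_hom, comp_app]

theorem canIso_eq_iff (F : EtDesc.Sh X)
    (x : ((EtDesc.pullSh f).obj F).obj.obj (op ((EtCoh.bc f).obj (EtCoh.top X)))) :
    (EtDesc.canIso f F).hom.hom.app (op (EtCoh.top (EtDesc.X2 f)))
        (EtDesc.secPull (pullback.fst f f) ((EtDesc.pullSh f).obj F)
          (((EtDesc.pullSh f).obj F).obj.map (EtCore.bcTopIso f).inv.op x)) =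
      EtDesc.secPull (pullback.snd f f) ((EtDesc.pullSh f).obj F)
          (((EtDesc.pullSh f).obj F).obj.map (EtCore.bcTopIso f).inv.op x) ↔
    trans₁ f F (EtCoh.top X) x = trans₂ f F (EtCoh.top X) x :=
  can_eq_iff f (p₁ := pullback.fst f f) (p₂ := pullback.snd f f) (q := q₀ f) rfl pullback.condition.symm F
    (EtDesc.canIso f F) rfl (EtCoh.top (EtDesc.X2 f)) rfl
    (EtDesc.secPull (pullback.fst f f) ((EtDesc.pullSh f).obj F))
    (EtDesc.secPull (pullback.snd f f) ((EtDesc.pullSh f).obj F)) HEq.rfl HEq.rfl x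

/-- **Exactness of sections**: `Γ(X, F) → Γ(X', f^*F) ⇉ Γ(X'', F'')`. -/
theorem sections_equalizer (hf : EtDesc.IsUnivSubmersive f) (F : EtDesc.Sh X) :
    Function.Injective (EtDesc.secPull f F) ∧
    Set.range (EtDesc.secPull f F) =
      {s' | (EtDesc.canIso f F).hom.hom.app (op (EtCoh.top (EtDesc.X2 f)))
          (EtDesc.secPull (pullback.fst f f) ((EtDesc.pullSh f).obj F) s') =
        EtDesc.secPull (pullback.snd f f) ((EtDesc.pullSh f).obj F) s'} := by
  haveI := surjective_of_univSubmersive hf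
  have hb : Function.Bijective (((EtDesc.pullSh f).obj F).obj.map (EtCore.bcTopIso f).inv.op) :=
    bijective_map_iso ((EtDesc.pullSh f).obj F).obj (EtCore.bcTopIso f).symm
  refine ⟨fun s t h => pullSect_injective f F _ (hb.1 (by rwa [secPull_eq, secPull_eq] at h)),
    Set.ext fun s' => ⟨?_, fun h => ?_⟩⟩
  · rintro ⟨s, rfl⟩
    rw [secPull_eq]
    refine (canIso_eq_iff f F (pullSect f F s)).2 ?_
    exact (transfer_pullSect _ _ _ _ F s).trans (transfer_pullSect _ _ _ _ F s).symm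
  · obtain ⟨x, rfl⟩ := hb.2 s'
    obtain ⟨t, ht, -⟩ := existsUnique_section hf F _ x ((canIso_eq_iff f F x).1 h)
    exact ⟨t, (secPull_eq f F t).trans (congrArg (((EtDesc.pullSh f).obj F).obj.map (EtCore.bcTopIso f).inv.op) ht)⟩

/-- **Full faithfulness on descent data.** -/
theorem transfer_eq_of_comm {p₁ p₂ : T ⟶ X'} {q : T ⟶ X} (w₁ : p₁ ≫ f = q) (w₂ : p₂ ≫ f = q) {F G : EtDesc.Sh X}
    (a : (EtDesc.pullSh f).obj F ⟶ (EtDesc.pullSh f).obj G)
    (cF : (EtDesc.pullSh p₁).obj ((EtDesc.pullSh f).obj F) ⟶ (EtDesc.pullSh p₂).obj ((EtDesc.pullSh f).obj F))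
    (cG : (EtDesc.pullSh p₁).obj ((EtDesc.pullSh f).obj G) ⟶ (EtDesc.pullSh p₂).obj ((EtDesc.pullSh f).obj G))
    (hF : cF = (EtDesc.pullVia p₁ f q w₁ F).hom ≫ (EtDesc.pullVia p₂ f q w₂ F).inv)
    (hG : cG = (EtDesc.pullVia p₁ f q w₁ G).hom ≫ (EtDesc.pullVia p₂ f q w₂ G).inv)
    (ha : cF ≫ (EtDesc.pullSh p₂).map a = (EtDesc.pullSh p₁).map a ≫ cG)
    (V : X.Etale) (s : F.obj.obj (op V)) :
    transfer p₁ f q w₁ G V (a.hom.app (op ((EtCoh.bc f).obj V)) (pullSect f F s)) =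
      transfer p₂ f q w₂ G V (a.hom.app (op ((EtCoh.bc f).obj V)) (pullSect f F s)) := by
  rw [hF, hG] at ha
  have hα := iso_square (EtDesc.pullVia p₁ f q w₁ F) (EtDesc.pullVia p₂ f q w₂ F) (EtDesc.pullVia p₁ f q w₁ G)
    (EtDesc.pullVia p₂ f q w₂ G) _ _ ha
  rw [transfer_naturality, transfer_naturality, transfer_pullSect, transfer_pullSect]
  exact congrArg (fun e : (EtDesc.pullSh q).obj F ⟶ (EtDesc.pullSh q).obj G =>
    e.hom.app (op ((EtCoh.bc q).obj V)) (pullSect q F s)) hα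

theorem existsUnique_hom (hf : EtDesc.IsUnivSubmersive f) (F G : EtDesc.Sh X)
    (a : (EtDesc.pullSh f).obj F ⟶ (EtDesc.pullSh f).obj G)
    (ha : (EtDesc.canIso f F).hom ≫ (EtDesc.pullSh (pullback.snd f f)).map a =
      (EtDesc.pullSh (pullback.fst f f)).map a ≫ (EtDesc.canIso f G).hom) :
    ∃! b : F ⟶ G, (EtDesc.pullSh f).map b = a := by
  haveI := surjective_of_univSubmersive hf
  have hdata : ∀ (V : X.Etale) (s : F.obj.obj (op V)),
      trans₁ f G V (a.hom.app _ (pullSect f F s)) = trans₂ f G V (a.hom.app _ (pullSect f F s)) :=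
    transfer_eq_of_comm f (q := q₀ f) rfl pullback.condition.symm a _ _ (canIso_hom f F) (canIso_hom f G) ha
  choose t ht huniq using fun V s => existsUnique_section hf G V _ (hdata V s)
  let b : F ⟶ G := ⟨{
    app := fun V => TypeCat.ofHom fun s => t V.unop s
    naturality := fun V W g => ConcreteCategory.hom_ext _ _ fun s => by
      show t W.unop (F.obj.map g s) = G.obj.map g (t V.unop s)
      refine (huniq W.unop _ _ ?_).symm
      show pullSect f G (G.obj.map g.unop.op (t V.unop s)) = a.hom.app _ (pullSect f F (F.obj.map g.unop.op s))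
      rw [pullSect_map, pullSect_map, NatTrans.naturality_apply a.hom, ht] }⟩
  have hb : (EtDesc.pullSh f).map b = a := by
    apply ((EtDesc.adjSh f).homEquiv F _).injective
    rw [Adjunction.homEquiv_unit, Adjunction.homEquiv_unit]
    refine ((EtDesc.adjSh f).unit.naturality b).symm.trans ?_
    refine CategoryTheory.Sheaf.hom_ext ?_
    ext V s
    exact ((comp_app b ((EtDesc.adjSh f).unit.app G) V.unop s).trans (ht V.unop s)).trans
      ((comp_app ((EtDesc.adjSh f).unit.app F) ((EtDesc.pushSh f).map a) V.unop s).trans (push_map_app f a V.unop _)).symm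
  refine ⟨b, hb, fun b' hb' => ?_⟩

  refine CategoryTheory.Sheaf.hom_ext ?_
  ext V s
  refine pullSect_injective f G V.unop ((pullSect_naturality f b' s).symm.trans ?_)
  rw [hb']
  exact (ht V.unop s).symm

end Groth.Agent.H15Site.SetDescent
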