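import Groth.Agent.H15Site.SetDescent.Locus
import Groth.Agent.H18Et.PropAB

/-!
# Descent of sections along universally submersive morphisms
-/

set_option autoImplicit false
set_option linter.unusedSectionVars false
set_option linter.style.haveILetI false
set_option backward.isDefEq.respectTransparency false
set_option backward.isDefEq.respectTransparency.types false

universe u

open CategoryTheory CategoryTheory.Limits AlgebraicGeometry Opposite
open scoped Groth.Agent.H18Et

namespace Groth.Agent.H15Site.SetDescent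

open Groth.Agent.H18Et

variable {T S X : Scheme.{u}}

/-- `W ×_X T ⟶ (W ×_X S) ×_S T` for `p ≫ a = b`. -/
noncomputable def tm (p : T ⟶ S) (a : S ⟶ X) (b : T ⟶ X) (w : p ≫ a = b) (W : X.Etale) :
    (EtCoh.bc b).obj W ⟶ (EtCoh.bc p).obj ((EtCoh.bc a).obj W) :=
  MorphismProperty.Over.homMk
    (pullback.lift
      (pullback.lift (pullback.fst W.hom b) (pullback.snd W.hom b ≫ p) (by rw [Category.assoc, w, pullback.condition]))
      (pullback.snd W.hom b) (pullback.lift_snd _ _ _))
    (pullback.lift_snd _ _ _) trivial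

theorem bc_map_fst (a : S ⟶ X) {W W' : X.Etale} (g : W' ⟶ W) :
    ((EtCoh.bc a).map g).left ≫ pullback.fst W.hom a = pullback.fst W'.hom a ≫ g.left :=
  pullback.lift_fst _ _ _

theorem bc_hom_ext {a : S ⟶ X} {W : X.Etale} {U : S.Etale} {m m' : U ⟶ (EtCoh.bc a).obj W}
    (h : m.left ≫ pullback.fst W.hom a = m'.left ≫ pullback.fst W.hom a) : m = m' :=
  MorphismProperty.Over.Hom.ext (pullback.hom_ext h ((Over.w m.hom).trans (Over.w m'.hom).symm))

theorem bc_bc_hom_ext {p : T ⟶ S} {a : S ⟶ X} {W : X.Etale} {U : T.Etale}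
    {m m' : U ⟶ (EtCoh.bc p).obj ((EtCoh.bc a).obj W)}
    (h : (m.left ≫ pullback.fst ((EtCoh.bc a).obj W).hom p) ≫ pullback.fst W.hom a =
      (m'.left ≫ pullback.fst ((EtCoh.bc a).obj W).hom p) ≫ pullback.fst W.hom a) : m = m' := by
  refine bc_hom_ext (pullback.hom_ext h ?_)
  have e : ∀ k : U ⟶ (EtCoh.bc p).obj ((EtCoh.bc a).obj W),
      (k.left ≫ pullback.fst ((EtCoh.bc a).obj W).hom p) ≫ pullback.snd W.hom a = U.hom ≫ p := fun k => by
    refine (Category.assoc _ _ _).trans ?_
    refine (congrArg (k.left ≫ ·) (pullback.condition (f := ((EtCoh.bc a).obj W).hom) (g := p))).trans ?_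
    exact (Category.assoc _ _ _).symm.trans (congrArg (· ≫ p) (Over.w k.hom))
  exact (e m).trans (e m').symm

theorem tm_fst_fst (p : T ⟶ S) (a : S ⟶ X) (b : T ⟶ X) (w : p ≫ a = b) (W : X.Etale) :
    ((tm p a b w W).left ≫ pullback.fst ((EtCoh.bc a).obj W).hom p) ≫ pullback.fst W.hom a =
      pullback.fst W.hom b :=
  (congrArg (· ≫ pullback.fst W.hom a) (pullback.lift_fst _ _ _)).trans (pullback.lift_fst _ _ _)

theorem tm_naturality (p : T ⟶ S) (a : S ⟶ X) (b : T ⟶ X) (w : p ≫ a = b) {W W' : X.Etale} (g : W' ⟶ W) :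
    tm p a b w W' ≫ (EtCoh.bc p).map ((EtCoh.bc a).map g) = (EtCoh.bc b).map g ≫ tm p a b w W := by
  refine bc_bc_hom_ext ?_
  show (((tm p a b w W').left ≫ ((EtCoh.bc p).map ((EtCoh.bc a).map g)).left) ≫
      pullback.fst ((EtCoh.bc a).obj W).hom p) ≫ pullback.fst W.hom a =
    ((((EtCoh.bc b).map g).left ≫ (tm p a b w W).left) ≫ pullback.fst ((EtCoh.bc a).obj W).hom p) ≫
      pullback.fst W.hom a
  have h1 : ((EtCoh.bc p).map ((EtCoh.bc a).map g)).left ≫ pullback.fst ((EtCoh.bc a).obj W).hom p =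
      pullback.fst ((EtCoh.bc a).obj W').hom p ≫ ((EtCoh.bc a).map g).left := bc_map_fst p _
  refine (congrArg (· ≫ pullback.fst W.hom a) ((Category.assoc _ _ _).trans
    ((congrArg ((tm p a b w W').left ≫ ·) h1).trans (Category.assoc _ _ _).symm))).trans ?_
  refine (Category.assoc _ _ _).trans ((congrArg (_ ≫ ·) (bc_map_fst a g)).trans ?_)
  refine (Category.assoc _ _ _).symm.trans ((congrArg (· ≫ g.left) (tm_fst_fst p a b w W')).trans ?_)
  refine (bc_map_fst b g).symm.trans ?_
  refine (congrArg (((EtCoh.bc b).map g).left ≫ ·) (tm_fst_fst p a b w W).symm).trans ?_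
  simp only [Category.assoc]

theorem tm_eq (p : T ⟶ S) (a : S ⟶ X) (W : X.Etale) :
    (MorphismProperty.Over.pullbackComp (P := EtCoh.etaleMP) (Q := ⊤) p a).hom.app W = tm p a (p ≫ a) rfl W := by
  refine bc_bc_hom_ext ?_
  rw [tm_fst_fst, Category.assoc]
  exact MorphismProperty.Over.pullbackComp_left_fst_fst (P := EtCoh.etaleMP) (Q := ⊤) p a W

/-- Transfer of sections of `a^* G` over `W ×_X S` to sections of `b^* G` over `W ×_X T`, for `p ≫ a = b`. -/
noncomputable def transfer (p : T ⟶ S) (a : S ⟶ X) (b : T ⟶ X) (w : p ≫ a = b) (G : EtDesc.Sh X) (W : X.Etale)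
    (x : ((EtDesc.pullSh a).obj G).obj.obj (op ((EtCoh.bc a).obj W))) :
    ((EtDesc.pullSh b).obj G).obj.obj (op ((EtCoh.bc b).obj W)) :=
  ((EtDesc.pullSh b).obj G).obj.map (tm p a b w W).op
    ((EtDesc.pullVia p a b w G).hom.hom.app (op ((EtCoh.bc p).obj ((EtCoh.bc a).obj W)))
      (pullSect p ((EtDesc.pullSh a).obj G) x))

theorem transfer_map (p : T ⟶ S) (a : S ⟶ X) (b : T ⟶ X) (w : p ≫ a = b) (G : EtDesc.Sh X) {W W' : X.Etale}
    (g : W' ⟶ W) (x : ((EtDesc.pullSh a).obj G).obj.obj (op ((EtCoh.bc a).obj W))) :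
    transfer p a b w G W' (((EtDesc.pullSh a).obj G).obj.map ((EtCoh.bc a).map g).op x) =
      ((EtDesc.pullSh b).obj G).obj.map ((EtCoh.bc b).map g).op (transfer p a b w G W x) := by
  unfold transfer
  rw [pullSect_map, NatTrans.naturality_apply (EtDesc.pullVia p a b w G).hom.hom, ← Functor.map_comp_apply,
    ← Functor.map_comp_apply, ← op_comp, ← op_comp]
  rw [tm_naturality]

theorem transfer_naturality (p : T ⟶ S) (a : S ⟶ X) (b : T ⟶ X) (w : p ≫ a = b) {G G' : EtDesc.Sh X}
    (φ : (EtDesc.pullSh a).obj G ⟶ (EtDesc.pullSh a).obj G') (W : X.Etale)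
    (x : ((EtDesc.pullSh a).obj G).obj.obj (op ((EtCoh.bc a).obj W))) :
    transfer p a b w G' W (φ.hom.app (op ((EtCoh.bc a).obj W)) x) =
      ((EtDesc.pullVia p a b w G).inv ≫ (EtDesc.pullSh p).map φ ≫ (EtDesc.pullVia p a b w G').hom).hom.app _
        (transfer p a b w G W x) := by
  unfold transfer
  rw [NatTrans.naturality_apply
    ((EtDesc.pullVia p a b w G).inv ≫ (EtDesc.pullSh p).map φ ≫ (EtDesc.pullVia p a b w G').hom).hom]
  congr 1
  show _ = (EtDesc.pullVia p a b w G').hom.hom.app _ (((EtDesc.pullSh p).map φ).hom.app _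
    ((EtDesc.pullVia p a b w G).inv.hom.app _ ((EtDesc.pullVia p a b w G).hom.hom.app _ (pullSect p _ x))))
  rw [← pullSect_naturality p φ x]
  refine congrArg _ (congrArg _ ?_)
  exact (ConcreteCategory.congr_hom (congr_app (congrArg (fun t => t.hom) (EtDesc.pullVia p a b w G).hom_inv_id) _)
    (pullSect p _ x)).symm

theorem transfer_pullSect (p : T ⟶ S) (a : S ⟶ X) (b : T ⟶ X) (w : p ≫ a = b) (G : EtDesc.Sh X) {W : X.Etale}
    (t : G.obj.obj (op W)) : transfer p a b w G W (pullSect a G t) = pullSect b G t := by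
  subst w
  have h := Adjunction.unit_leftAdjointUniq_hom (EtDesc.adjSh (p ≫ a))
    (((EtDesc.adjSh a).comp (EtDesc.adjSh p)).ofNatIsoRight (EtDesc.pushCompSh a p))
  have h2 : (((EtDesc.adjSh a).comp (EtDesc.adjSh p)).ofNatIsoRight (EtDesc.pushCompSh a p)).unit.app G ≫
      (EtDesc.pushSh (p ≫ a)).map ((EtDesc.pullCompSh p a).inv.app G) = (EtDesc.adjSh (p ≫ a)).unit.app G := by
    rw [← congr_app h G, NatTrans.comp_app, Functor.whiskerRight_app, Category.assoc, ← Functor.map_comp]
    rw [show EtDesc.pullCompSh p a = Adjunction.leftAdjointUniq (EtDesc.adjSh (p ≫ a))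
      (((EtDesc.adjSh a).comp (EtDesc.adjSh p)).ofNatIsoRight (EtDesc.pushCompSh a p)) from rfl,
      Iso.hom_inv_id_app, CategoryTheory.Functor.map_id]
    exact Category.comp_id _
  have h3 : (((EtDesc.adjSh a).comp (EtDesc.adjSh p)).ofNatIsoRight (EtDesc.pushCompSh a p)).unit.app G =
      (EtDesc.adjSh a).unit.app G ≫ (EtDesc.pushSh a).map ((EtDesc.adjSh p).unit.app ((EtDesc.pullSh a).obj G)) ≫
        (EtDesc.pushCompSh a p).hom.app ((EtDesc.pullSh p).obj ((EtDesc.pullSh a).obj G)) := by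
    have e := Adjunction.homEquiv_ofNatIsoRight_apply ((EtDesc.adjSh a).comp (EtDesc.adjSh p))
      (EtDesc.pushCompSh a p) (𝟙 ((EtDesc.pullSh a ⋙ EtDesc.pullSh p).obj G))
    rw [Adjunction.homEquiv_id, Adjunction.homEquiv_id, Adjunction.comp_unit_app] at e
    rw [e]
    exact Category.assoc _ _ _
  rw [h3] at h2
  have h4 := ConcreteCategory.congr_hom (congr_app (congrArg (fun t => t.hom) h2) (op W)) t
  refine Eq.trans ?_ h4
  unfold transfer
  rw [← tm_eq, ← NatTrans.naturality_apply (EtDesc.pullVia p a (p ≫ a) rfl G).hom.hom]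
  refine congrArg (((EtDesc.pullCompSh p a).inv.app G).hom.app _) ?_
  rfl

theorem mem_agree_transfer (p : T ⟶ S) (a : S ⟶ X) (b : T ⟶ X) (w : p ≫ a = b) (G : EtDesc.Sh X) (W : X.Etale)
    (x y : ((EtDesc.pullSh a).obj G).obj.obj (op ((EtCoh.bc a).obj W))) (u : ((EtCoh.bc b).obj W).left) :
    u ∈ agree _ (transfer p a b w G W x) (transfer p a b w G W y) ↔
      (pullback.fst ((EtCoh.bc a).obj W).hom p).base ((tm p a b w W).left.base u) ∈ agree _ x y := by
  unfold transfer
  rw [mem_agree_map, mem_agree_iso, mem_agree_pullSect]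

variable {X' : Scheme.{u}} (f : X' ⟶ X)

/-- The structure morphism of `X' ×_X X'`. -/
noncomputable abbrev q₀ : EtDesc.X2 f ⟶ X := pullback.fst f f ≫ f

/-- First pullback of a section to `X' ×_X X'`. -/
noncomputable abbrev trans₁ (G : EtDesc.Sh X) (W : X.Etale)
    (x : ((EtDesc.pullSh f).obj G).obj.obj (op ((EtCoh.bc f).obj W))) :=
  transfer (pullback.fst f f) f (q₀ f) rfl G W x

/-- Second pullback of a section to `X' ×_X X'`. -/
noncomputable abbrev trans₂ (G : EtDesc.Sh X) (W : X.Etale)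
    (x : ((EtDesc.pullSh f).obj G).obj.obj (op ((EtCoh.bc f).obj W))) :=
  transfer (pullback.snd f f) f (q₀ f) pullback.condition.symm G W x

theorem fst_fst_transferMor (W : X.Etale) (p : T ⟶ S) (a : S ⟶ X) (b : T ⟶ X) (w : p ≫ a = b) :
    (tm p a b w W).left ≫ pullback.fst ((EtCoh.bc a).obj W).hom p =
    pullback.lift (pullback.fst W.hom b) (pullback.snd W.hom b ≫ p)
      (by rw [Category.assoc, w, pullback.condition]) := pullback.lift_fst _ _ _

/-- Two points over the same point lift to `X' ×_X X'`. -/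
theorem exists_pair (W : X.Etale) (u₁ u₂ : (pullback W.hom f : Scheme.{u}))
    (h : (pullback.fst W.hom f).base u₁ = (pullback.fst W.hom f).base u₂) :
    ∃ u : (pullback W.hom (q₀ f) : Scheme.{u}),
      (pullback.lift (pullback.fst W.hom (q₀ f)) (pullback.snd W.hom (q₀ f) ≫ pullback.fst f f)
        (by rw [Category.assoc]; exact pullback.condition) : pullback W.hom (q₀ f) ⟶ pullback W.hom f).base u = u₁ ∧
      (pullback.lift (pullback.fst W.hom (q₀ f)) (pullback.snd W.hom (q₀ f) ≫ pullback.snd f f)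
        (by rw [Category.assoc, ← pullback.condition (f := f) (g := f)]; exact pullback.condition) :
          pullback W.hom (q₀ f) ⟶ pullback W.hom f).base u = u₂ := by
  obtain ⟨z, hz₁, hz₂⟩ := Scheme.Pullback.exists_preimage_pullback u₁ u₂ h
  let π : pullback (pullback.fst W.hom f) (pullback.fst W.hom f) ⟶ pullback f f :=
    pullback.lift (pullback.fst (pullback.fst W.hom f) (pullback.fst W.hom f) ≫ pullback.snd W.hom f)
      (pullback.snd (pullback.fst W.hom f) (pullback.fst W.hom f) ≫ pullback.snd W.hom f)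
      (by rw [Category.assoc, Category.assoc, ← pullback.condition, pullback.condition_assoc])
  let m : pullback (pullback.fst W.hom f) (pullback.fst W.hom f) ⟶ pullback W.hom (q₀ f) :=
    pullback.lift (pullback.fst (pullback.fst W.hom f) (pullback.fst W.hom f) ≫ pullback.fst W.hom f) π (by
      rw [Category.assoc, pullback.condition (f := W.hom) (g := f)]
      show _ = π ≫ pullback.fst f f ≫ f
      rw [← Category.assoc π, pullback.lift_fst, Category.assoc])
  refine ⟨m.base z, ?_, ?_⟩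
  · rw [← Scheme.Hom.comp_apply, ← hz₁]
    refine congrArg (fun q : pullback (pullback.fst W.hom f) (pullback.fst W.hom f) ⟶ pullback W.hom f => q.base z) ?_
    apply pullback.hom_ext <;> simp [m, π]
  · rw [← Scheme.Hom.comp_apply, ← hz₂]
    refine congrArg (fun q : pullback (pullback.fst W.hom f) (pullback.fst W.hom f) ⟶ pullback W.hom f => q.base z) ?_
    apply pullback.hom_ext <;> simp [m, π, pullback.condition]

variable {f}

theorem agree_saturated (G : EtDesc.Sh X) (W : X.Etale)
    (x : ((EtDesc.pullSh f).obj G).obj.obj (op ((EtCoh.bc f).obj W)))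
    (hx : trans₁ f G W x = trans₂ f G W x) (t : G.obj.obj (op W))
    (u₁ u₂ : ((EtCoh.bc f).obj W).left) (h : (pullback.fst W.hom f).base u₁ = (pullback.fst W.hom f).base u₂)
    (h₁ : u₁ ∈ agree _ x (pullSect f G t)) : u₂ ∈ agree _ x (pullSect f G t) := by
  obtain ⟨u, hu₁, hu₂⟩ := exists_pair f W u₁ u₂ h
  have k₁ : (pullback.fst ((EtCoh.bc f).obj W).hom (pullback.fst f f)).base
      ((tm (pullback.fst f f) f (q₀ f) rfl W).left.base u) = u₁ :=
    (congrArg (fun q : pullback W.hom (q₀ f) ⟶ pullback W.hom f => q.base u)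
      (fst_fst_transferMor W (pullback.fst f f) f (q₀ f) rfl)).trans hu₁
  have k₂ : (pullback.fst ((EtCoh.bc f).obj W).hom (pullback.snd f f)).base
      ((tm (pullback.snd f f) f (q₀ f) pullback.condition.symm W).left.base u) = u₂ :=
    (congrArg (fun q : pullback W.hom (q₀ f) ⟶ pullback W.hom f => q.base u)
      (fst_fst_transferMor W (pullback.snd f f) f (q₀ f) pullback.condition.symm)).trans hu₂
  have h' : u ∈ agree _ (trans₁ f G W x) (trans₁ f G W (pullSect f G t)) :=
    (mem_agree_transfer _ _ _ _ G W _ _ u).2 (k₁.symm ▸ h₁)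
  rw [show trans₁ f G W (pullSect f G t) = trans₂ f G W (pullSect f G t) from
    (transfer_pullSect _ _ _ _ G t).trans (transfer_pullSect _ _ _ _ G t).symm, hx] at h'
  exact k₂ ▸ (mem_agree_transfer _ _ _ _ G W _ _ u).1 h'

theorem isOpen_image (hf : EtDesc.IsUnivSubmersive f) (W : X.Etale) (E : Set ((EtCoh.bc f).obj W).left)
    (hE : IsOpen E) (hsat : ∀ u₁ u₂, (pullback.fst W.hom f).base u₁ = (pullback.fst W.hom f).base u₂ →
      u₁ ∈ E → u₂ ∈ E) : IsOpen ((pullback.fst W.hom f).base '' E) := by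
  have hq := (hf W.left W.hom).2
  have e : (pullback.fst W.hom f).base =
      (pullback.snd f W.hom).base ∘ (pullbackSymmetry W.hom f).hom.base := by
    funext u
    show _ = (pullback.snd f W.hom).base ((pullbackSymmetry W.hom f).hom.base u)
    rw [← Scheme.Hom.comp_apply, pullbackSymmetry_hom_comp_snd]
  have hq' : Topology.IsQuotientMap (pullback.fst W.hom f).base := by
    rw [e]
    exact hq.comp (Scheme.homeoOfIso (pullbackSymmetry W.hom f)).isQuotientMap
  rw [← hq'.isOpen_preimage]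
  have h : (pullback.fst W.hom f).base ⁻¹' ((pullback.fst W.hom f).base '' E) = E :=
    Set.Subset.antisymm (fun u ⟨v, hv, hvu⟩ => hsat v u hvu hv) (Set.subset_preimage_image _ _)
  exact Eq.mpr (congrArg IsOpen h) hE

theorem surjective_of_univSubmersive (hf : EtDesc.IsUnivSubmersive f) : Surjective f := by
  have h := (hf X (𝟙 X)).1
  refine ⟨fun x => ?_⟩
  obtain ⟨u, hu⟩ := h x
  refine ⟨(pullback.fst f (𝟙 X)).base u, ?_⟩
  rw [← hu, ← Scheme.Hom.comp_apply, pullback.condition, Category.comp_id]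

/-- The open subobject of an étale scheme. -/
noncomputable abbrev openObj {W : X.Etale} (O : W.left.Opens) : X.Etale :=
  haveI := W.prop
  Scheme.Etale.mk (O.ι ≫ W.hom)

/-- The inclusion of an open subobject. -/
noncomputable abbrev openHom {W : X.Etale} (O : W.left.Opens) : openObj O ⟶ W :=
  MorphismProperty.Over.homMk O.ι rfl trivial

theorem bc_map_base_fst (a : S ⟶ X) {W W' : X.Etale} (g : W' ⟶ W) (o : ((EtCoh.bc a).obj W').left) :
    (pullback.fst W.hom a).base (((EtCoh.bc a).map g).left.base o) = g.left.base ((pullback.fst W'.hom a).base o) :=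
  congrArg (fun q : ((EtCoh.bc a).obj W').left ⟶ W.left => q.base o) (bc_map_fst a g)

set_option maxHeartbeats 1600000 in
theorem fiber_map_inv {Ω : Type u} [Field Ω] [IsSepClosed Ω] (ξ : Spec (CommRingCat.of Ω) ⟶ X') {V W : X.Etale}
    (g : W ⟶ V) (w : (Scheme.pointSmallEtale (ξ ≫ f)).fiber.obj W) :
    (EtCoh.bc f ⋙ (Scheme.pointSmallEtale ξ).fiber).map g ((fiberCompIso f ξ).inv.app W w) =
      (fiberCompIso f ξ).inv.app V ((Scheme.pointSmallEtale (ξ ≫ f)).fiber.map g w) := by
  have h := NatTrans.naturality_apply (fiberCompIso f ξ).inv g w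
  exact h.symm

/-- Every section of `f^* G` is, near a given point, the inverse image of a section of `G`. -/
theorem exists_rep_near (G : EtDesc.Sh X) (V : X.Etale)
    (s' : ((EtDesc.pullSh f).obj G).obj.obj (op ((EtCoh.bc f).obj V))) {Ω : Type u} [Field Ω] [IsSepClosed Ω]
    (ξ : Spec (CommRingCat.of Ω) ⟶ X') (z : (Scheme.pointSmallEtale (ξ ≫ f)).fiber.obj V) :
    ∃ (W : X.Etale) (g : W ⟶ V) (w : (Scheme.pointSmallEtale (ξ ≫ f)).fiber.obj W) (t : G.obj.obj (op W)),
      (Scheme.pointSmallEtale (ξ ≫ f)).fiber.map g w = z ∧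
      ptOf ((fiberCompIso f ξ).inv.app W w) ∈
        agree _ (((EtDesc.pullSh f).obj G).obj.map ((EtCoh.bc f).map g).op s') (pullSect f G t) := by
  obtain ⟨W₀, w₀, t₀, ht₀⟩ := germ_surjective (ξ ≫ f) G
    ((stalkPullShIso f ξ).hom.app G (germ ξ ((EtDesc.pullSh f).obj G) _ ((fiberCompIso f ξ).inv.app V z) s'))
  obtain ⟨⟨W, w⟩, ⟨g, hg⟩, ⟨e, he⟩, -⟩ := IsCofilteredOrEmpty.cone_objs
    (C := (Scheme.pointSmallEtale (ξ ≫ f)).fiber.Elements) ⟨V, z⟩ ⟨W₀, w₀⟩
  dsimp at g e hg he
  refine ⟨W, g, w, G.obj.map e.op t₀, hg, (germ_eq_iff_mem_agree _ _ _ _).1 ?_⟩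
  refine (germ_map _ _ _ _).trans ?_
  refine Eq.trans ?_ (germ_pullSect f G ξ w _).symm
  have h1 : germ (ξ ≫ f) G W w (G.obj.map e.op t₀) =
      (stalkPullShIso f ξ).hom.app G (germ ξ ((EtDesc.pullSh f).obj G) _ ((fiberCompIso f ξ).inv.app V z) s') :=
    (germ_map G e w t₀).trans ((congrArg (fun q => germ (ξ ≫ f) G W₀ q t₀) he).trans ht₀)
  refine Eq.trans ?_ (congrArg ((stalkPullShIso f ξ).inv.app G) h1).symm
  refine Eq.trans ?_ (ConcreteCategory.congr_hom ((stalkPullShIso f ξ).hom_inv_id_app G) _).symm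
  exact congrArg (fun q => germ ξ ((EtDesc.pullSh f).obj G) ((EtCoh.bc f).obj V) q s')
    ((fiber_map_inv ξ g w).trans (congrArg _ hg))

set_option maxHeartbeats 1600000 in
/-- **Descent of sections.** A section of `f^* G` with equal pullbacks to `X' ×_X X'` descends uniquely. -/
theorem existsUnique_section (hf : EtDesc.IsUnivSubmersive f) (G : EtDesc.Sh X) (V : X.Etale)
    (s' : ((EtDesc.pullSh f).obj G).obj.obj (op ((EtCoh.bc f).obj V)))
    (hs : trans₁ f G V s' = trans₂ f G V s') : ∃! t : G.obj.obj (op V), pullSect f G t = s' := by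
  haveI := surjective_of_univSubmersive hf
  let P := fun (W : X.Etale) (g : W ⟶ V) (t : G.obj.obj (op W)) =>
    pullSect f G t = ((EtDesc.pullSh f).obj G).obj.map ((EtCoh.bc f).map g).op s'
  have huniq : ∀ {W : X.Etale} (g : W ⟶ V) (t t' : G.obj.obj (op W)), P W g t → P W g t' → t = t' :=
    fun g t t' h h' => pullSect_injective f G _ (h.trans h'.symm)
  have hmap : ∀ {W W' : X.Etale} (g : W ⟶ V) (e : W' ⟶ W) (t : G.obj.obj (op W)), P W g t →
      P W' (e ≫ g) (G.obj.map e.op t) := fun {W W'} g e t h => by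
    show pullSect f G _ = _
    rw [pullSect_map, show pullSect f G t = _ from h, ← Functor.map_comp_apply, ← op_comp, ← Functor.map_comp]
  let R : Sieve V :=
    { arrows := fun W g => ∃ t, P W g t
      downward_closed := fun {W W'} g ⟨t, ht⟩ e => ⟨_, hmap g e t ht⟩ }
  have hR : R ∈ X.smallEtaleTopology V := by
    refine mem_topology_of_forall_point _ fun u => ?_
    obtain ⟨x', hx'⟩ := f.surjective (V.hom.base u)
    obtain ⟨v', hv', -⟩ := Scheme.Pullback.exists_preimage_pullback (f := V.hom) (g := f) u x' hx'.symm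
    obtain ⟨Ω, _, _, ξ, z, hz⟩ := exists_fiber_comp f (V := V) v'
    obtain ⟨W, g, w, t, hg, hmem⟩ := exists_rep_near G V s' ξ z
    let x := ((EtDesc.pullSh f).obj G).obj.map ((EtCoh.bc f).map g).op s'
    have hx : trans₁ f G W x = trans₂ f G W x := by
      show transfer _ _ _ _ _ _ _ = transfer _ _ _ _ _ _ _
      rw [transfer_map, transfer_map]
      exact congrArg _ hs
    let E := agree _ x (pullSect f G t)
    let O : W.left.Opens := ⟨_, isOpen_image hf W E (isOpen_agree _ _ _) (agree_saturated G W x hx t)⟩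
    refine ⟨openObj O, openHom O ≫ g, ⟨ptOf w, ⟨_, hmem, fst_ptOf f ξ W w⟩⟩, ⟨G.obj.map (openHom O).op t, ?_⟩, ?_⟩
    · show pullSect f G _ = _
      rw [pullSect_map, Functor.map_comp, op_comp, Functor.map_comp_apply]
      refine eq_of_agree_eq_univ _ _ _ fun o => ?_
      rw [mem_agree_map]
      set u' := ((EtCoh.bc f).map (openHom O)).left.base o
      have hu : (pullback.fst W.hom f).base u' ∈ (O : Set W.left) := by
        refine Eq.mpr (congrArg (· ∈ (O : Set W.left)) (bc_map_base_fst f (openHom O) o)) ?_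
        exact ((pullback.fst (openObj O).hom f).base o).2
      obtain ⟨u'', hu'', hu'''⟩ := hu
      obtain ⟨C, c, v, hcv, hc⟩ := agree_saturated G W x hx t u'' u' hu''' hu''
      exact ⟨C, c, v, hcv, hc.symm⟩
    · have h1 : (openHom O ≫ g).left.base ⟨ptOf w, ⟨_, hmem, fst_ptOf f ξ W w⟩⟩ = g.left.base (ptOf w) := rfl
      rw [h1, ptOf_map, hg, ← hv', ← hz, fst_ptOf]
  have hG : Presieve.IsSheafFor G.obj R.arrows := (isSheaf_iff_isSheaf_of_type _ _).1 G.property R hR
  let fam : Presieve.FamilyOfElements G.obj R.arrows := fun W g hg => hg.choose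
  have hfam : fam.Compatible := fun W₁ W₂ Z g₁ g₂ f₁ f₂ h₁ h₂ hcomp => by
    refine huniq (g₁ ≫ f₁) _ _ (hmap f₁ g₁ _ h₁.choose_spec) ?_
    rw [hcomp]
    exact hmap f₂ g₂ _ h₂.choose_spec
  refine ⟨hG.amalgamate fam hfam, ?_, fun t' ht' => ?_⟩
  · refine eq_of_agree_eq_univ _ _ _ fun u => ?_
    obtain ⟨W, g, v, ⟨t, ht⟩, hv⟩ := exists_of_mem_topology hR ((pullback.fst V.hom f).base u)
    obtain ⟨y, hy₁, hy₂⟩ := Scheme.Pullback.exists_preimage_pullback (f := g.left) (g := pullback.fst V.hom f) v u hv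
    haveI := etale_left g
    have hgw : g.left ≫ V.hom = W.hom := Over.w g.hom
    have hc : pullback.fst g.left (pullback.fst V.hom f) ≫ W.hom =
        (pullback.snd g.left (pullback.fst V.hom f) ≫ pullback.snd V.hom f) ≫ f := by
      refine (congrArg (_ ≫ ·) hgw.symm).trans ?_
      refine (pullback.condition_assoc _).trans ?_
      rw [Category.assoc]
      exact congrArg (_ ≫ ·) pullback.condition
    let m : pullback g.left (pullback.fst V.hom f) ⟶ pullback W.hom f := pullback.lift _ _ hc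
    let y' : ((EtCoh.bc f).obj W).left := m.base y
    refine ⟨(EtCoh.bc f).obj W, (EtCoh.bc f).map g, y', ?_, ?_⟩
    · have e : m ≫ (show pullback W.hom f ⟶ pullback V.hom f from ((EtCoh.bc f).map g).left) =
          pullback.snd g.left (pullback.fst V.hom f) := by
        apply pullback.hom_ext
        · refine (Category.assoc _ _ _).trans ((congrArg (m ≫ ·) (bc_map_fst f g)).trans ?_)
          refine (Category.assoc _ _ _).symm.trans ((congrArg (· ≫ g.left) (pullback.lift_fst _ _ _)).trans ?_)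
          exact pullback.condition
        · refine (Category.assoc _ _ _).trans ((congrArg (m ≫ ·) (Over.w ((EtCoh.bc f).map g).hom)).trans ?_)
          exact pullback.lift_snd _ _ _
      exact (congrArg (fun q : pullback g.left (pullback.fst V.hom f) ⟶ pullback V.hom f => q.base y) e).trans hy₂
    · rw [← pullSect_map, hG.valid_glue hfam g ⟨t, ht⟩]
      exact (Exists.choose_spec (⟨t, ht⟩ : ∃ t, P W g t))
  · refine (hG.isSeparatedFor.ext fun W g hg => ?_)
    rw [hG.valid_glue hfam g hg]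
    refine huniq g _ _ ?_ hg.choose_spec
    show pullSect f G _ = _
    rw [pullSect_map, ht']

end Groth.Agent.H15Site.SetDescent
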