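import Groth.Agent.H15Site.SetDescent.Exact

/-!
# Loci where a section lifts along a morphism of sheaves of sets
-/

set_option autoImplicit false
set_option linter.unusedSectionVars false
set_option linter.style.haveILetI false
set_option backward.isDefEq.respectTransparency false
set_option backward.isDefEq.respectTransparency.types false

universe u

open CategoryTheory CategoryTheory.Limits AlgebraicGeometry Opposite
open scoped Groth.Agent.H18Et

namespace Groth.Agent.H15Site.SetDescent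

open Groth.Agent.H18Et

variable {T S X X' : Scheme.{u}} {Ω : Type u} [Field Ω] [IsSepClosed Ω]

/-- The points near which `s` lifts along `a`. -/
def liftLocus {G F : EtDesc.Sh X} (a : G ⟶ F) {U : X.Etale} (s : F.obj.obj (op U)) : Set U.left :=
  {u | ∃ (V : X.Etale) (g : V ⟶ U) (v : V.left) (r : G.obj.obj (op V)),
    g.left.base v = u ∧ a.hom.app (op V) r = F.obj.map g.op s}

theorem isOpen_liftLocus {G F : EtDesc.Sh X} (a : G ⟶ F) {U : X.Etale} (s : F.obj.obj (op U)) :
    IsOpen (liftLocus a s) := by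
  refine isOpen_iff_forall_mem_open.2 ?_
  rintro _ ⟨V, g, v, r, rfl, h⟩
  haveI := etale_left g
  exact ⟨Set.range g.left.base, fun _ ⟨v', hv'⟩ => ⟨V, g, v', r, hv', h⟩, g.left.isOpenMap.isOpen_range, v, rfl⟩

theorem germ_mem_range_iff {ξ : Spec (CommRingCat.of Ω) ⟶ X} {G F : EtDesc.Sh X} (a : G ⟶ F) {U : X.Etale}
    (z : (Scheme.pointSmallEtale ξ).fiber.obj U) (s : F.obj.obj (op U)) :
    (∃ c, (Scheme.pointSmallEtale ξ).sheafFiber.map a c = germ ξ F U z s) ↔ ptOf z ∈ liftLocus a s := by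
  constructor
  · rintro ⟨c, hc⟩
    obtain ⟨V, y, r, rfl⟩ := germ_surjective ξ G c
    rw [germ_naturality] at hc
    obtain ⟨⟨W, w⟩, ⟨g, hg⟩, ⟨e, he⟩, -⟩ := IsCofilteredOrEmpty.cone_objs
      (C := (Scheme.pointSmallEtale ξ).fiber.Elements) ⟨U, z⟩ ⟨V, y⟩
    dsimp at g e hg he
    have h : germ ξ F W w (F.obj.map e.op (a.hom.app (op V) r)) = germ ξ F W w (F.obj.map g.op s) :=
      (germ_map F e w _).trans ((congrArg (fun q => germ ξ F V q (a.hom.app (op V) r)) he).trans (hc.trans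
        ((congrArg (fun q => germ ξ F U q s) hg).symm.trans (germ_map F g w s).symm)))
    obtain ⟨W', d, w', hw', hd⟩ := (germ_eq_iff ξ F W w _ _).1 h
    refine ⟨W', d ≫ g, ptOf w', G.obj.map (d ≫ e).op r, ?_, ?_⟩
    · refine (congrArg g.left.base ((ptOf_map d w').trans (congrArg ptOf hw'))).trans ?_
      exact (ptOf_map g w).trans (congrArg ptOf hg)
    · refine (NatTrans.naturality_apply a.hom (d ≫ e).op r).trans ?_
      rw [op_comp, op_comp, Functor.map_comp_apply, Functor.map_comp_apply]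
      exact hd
  · rintro ⟨V, g, v, r, hv, he⟩
    obtain ⟨y, hy⟩ := exists_fiber_lift g z v hv
    refine ⟨germ ξ G V y r, ?_⟩
    rw [germ_naturality]
    exact (congrArg (germ ξ F V y) he).trans ((germ_map F g y s).trans (congrArg (fun q => germ ξ F U q s) hy))

theorem mem_liftLocus_map {G F : EtDesc.Sh X} (a : G ⟶ F) {U V : X.Etale} (g : V ⟶ U) (s : F.obj.obj (op U))
    (v : V.left) : v ∈ liftLocus a (F.obj.map g.op s) ↔ g.left.base v ∈ liftLocus a s := by
  obtain ⟨Ω, _, _, ξ, z, rfl⟩ := exists_fiber_geomPt v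
  rw [← germ_mem_range_iff, germ_map, germ_mem_range_iff, ptOf_map]

theorem mem_liftLocus_comp_iso {G F F' : EtDesc.Sh X} (a : G ⟶ F) (e : F ≅ F') {U : X.Etale} (s : F.obj.obj (op U))
    (u : U.left) : u ∈ liftLocus (a ≫ e.hom) (e.hom.hom.app (op U) s) ↔ u ∈ liftLocus a s := by
  obtain ⟨Ω, _, _, ξ, z, rfl⟩ := exists_fiber_geomPt u
  rw [← germ_mem_range_iff, ← germ_mem_range_iff, ← germ_naturality, Functor.map_comp]
  exact exists_congr fun c => ((isIso_iff_bijective _).1 (inferInstance :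
    IsIso ((Scheme.pointSmallEtale ξ).sheafFiber.map e.hom))).1.eq_iff

theorem mem_liftLocus_congr {G G' F : EtDesc.Sh X} (φ : G ≅ G') (a : G ⟶ F) (a' : G' ⟶ F) (h : φ.hom ≫ a' = a)
    {U : X.Etale} (s : F.obj.obj (op U)) (u : U.left) : u ∈ liftLocus a s ↔ u ∈ liftLocus a' s := by
  obtain ⟨Ω, _, _, ξ, z, rfl⟩ := exists_fiber_geomPt u
  rw [← germ_mem_range_iff, ← germ_mem_range_iff, ← h, Functor.map_comp]
  constructor
  · rintro ⟨c, hc⟩
    exact ⟨(Scheme.pointSmallEtale ξ).sheafFiber.map φ.hom c, hc⟩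
  · rintro ⟨c, hc⟩
    obtain ⟨d, rfl⟩ := ((isIso_iff_bijective _).1 (inferInstance :
      IsIso ((Scheme.pointSmallEtale ξ).sheafFiber.map φ.hom))).2 c
    exact ⟨d, hc⟩

theorem nat_comp_inv {C D : Type*} [Category C] [Category D] (F : C ⥤ D) (G : D ⥤ Type (u + 1)) {H : C ⥤ Type (u + 1)}
    (e : F ⋙ G ≅ H) {A B : C} (a : A ⟶ B) (c : H.obj A) :
    G.map (F.map a) (e.inv.app A c) = e.inv.app B (H.map a c) :=
  (NatTrans.naturality_apply e.inv a c).symm

set_option maxHeartbeats 800000 in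
theorem stalk_pull_naturality (p : T ⟶ S) (ξ : Spec (CommRingCat.of Ω) ⟶ T) {G F : EtDesc.Sh S} (a : G ⟶ F)
    (c : (Scheme.pointSmallEtale (ξ ≫ p)).sheafFiber.obj G) :
    (Scheme.pointSmallEtale ξ).sheafFiber.map ((EtDesc.pullSh p).map a) ((stalkPullShIso p ξ).inv.app G c) =
      (stalkPullShIso p ξ).inv.app F ((Scheme.pointSmallEtale (ξ ≫ p)).sheafFiber.map a c) :=
  nat_comp_inv (EtDesc.pullSh p) _ (stalkPullShIso p ξ) a c

theorem mem_liftLocus_pullSect (p : T ⟶ S) {G F : EtDesc.Sh S} (a : G ⟶ F) {U : S.Etale} (s : F.obj.obj (op U))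
    (v' : ((EtCoh.bc p).obj U).left) :
    v' ∈ liftLocus ((EtDesc.pullSh p).map a) (pullSect p F s) ↔ (pullback.fst U.hom p).base v' ∈ liftLocus a s := by
  obtain ⟨Ω, _, _, ξ, v, rfl⟩ := exists_fiber_comp p v'
  rw [← germ_mem_range_iff, fst_ptOf, ← germ_mem_range_iff, germ_pullSect]
  constructor
  · rintro ⟨c, hc⟩
    obtain ⟨d, rfl⟩ := ((isIso_iff_bijective _).1
      (inferInstance : IsIso ((stalkPullShIso p ξ).inv.app G))).2 c
    exact ⟨d, ((isIso_iff_bijective _).1 (inferInstance : IsIso ((stalkPullShIso p ξ).inv.app F))).1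
      ((stalk_pull_naturality p ξ a d).symm.trans hc)⟩
  · rintro ⟨c, hc⟩
    exact ⟨_, (stalk_pull_naturality p ξ a c).trans (congrArg _ hc)⟩

/-- A section lifting everywhere locally along a monomorphism lifts. -/
theorem exists_lift_of_liftLocus {G F : EtDesc.Sh X} (a : G ⟶ F) [Mono a] {U : X.Etale} (s : F.obj.obj (op U))
    (h : ∀ u, u ∈ liftLocus a s) : ∃ r, a.hom.app (op U) r = s := by
  have hinj : ∀ (V : X.Etale), Function.Injective (a.hom.app (op V)) := fun V r r' e =>
    sect_ext (F := G) (U := V) r r' fun Ω _ _ ξ z => (mono_iff_stalkSh a).1 inferInstance Ω ξ (by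
      rw [germ_naturality, germ_naturality, e])
  let P := fun (W : X.Etale) (g : W ⟶ U) (r : G.obj.obj (op W)) => a.hom.app (op W) r = F.obj.map g.op s
  have hmap : ∀ {W W' : X.Etale} (g : W ⟶ U) (e : W' ⟶ W) (r : G.obj.obj (op W)), P W g r →
      P W' (e ≫ g) (G.obj.map e.op r) := fun g e r he => by
    show _ = _
    rw [NatTrans.naturality_apply a.hom, show a.hom.app _ r = _ from he, ← Functor.map_comp_apply, op_comp]
  let R : Sieve U :=
    { arrows := fun W g => ∃ r, P W g r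
      downward_closed := fun {W W'} g ⟨r, hr⟩ e => ⟨_, hmap g e r hr⟩ }
  have hR : R ∈ X.smallEtaleTopology U := mem_topology_of_forall_point _ fun u => by
    obtain ⟨V, g, v, r, hv, he⟩ := h u
    exact ⟨V, g, v, ⟨r, he⟩, hv⟩
  have hG : Presieve.IsSheafFor G.obj R.arrows := (isSheaf_iff_isSheaf_of_type _ _).1 G.property R hR
  have hF : Presieve.IsSheafFor F.obj R.arrows := (isSheaf_iff_isSheaf_of_type _ _).1 F.property R hR
  let fam : Presieve.FamilyOfElements G.obj R.arrows := fun W g hg => hg.choose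
  have hfam : fam.Compatible := fun W₁ W₂ Z g₁ g₂ f₁ f₂ h₁ h₂ hcomp => by
    refine hinj Z ((hmap f₁ g₁ _ h₁.choose_spec).trans ?_)
    rw [hcomp]
    exact (hmap f₂ g₂ _ h₂.choose_spec).symm
  refine ⟨hG.amalgamate fam hfam, hF.isSeparatedFor.ext fun W g hg => ?_⟩
  rw [← NatTrans.naturality_apply a.hom, hG.valid_glue hfam g hg]
  exact hg.choose_spec

end Groth.Agent.H15Site.SetDescent
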