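import Groth.Agent.H18Et.BaseChangeSh
import Groth.Agent.H18Et.Support
import Groth.Agent.H18Et.StalkSets

/-!
# Loci of agreement of sections and of lifting of sections, for étale sheaves of sets
-/

set_option autoImplicit false
set_option linter.unusedSectionVars false
set_option linter.style.haveILetI false
set_option backward.isDefEq.respectTransparency false
set_option backward.isDefEq.respectTransparency.types false

universe u

open CategoryTheory CategoryTheory.Limits AlgebraicGeometry Opposite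
open scoped Groth.Agent.H18Et

namespace Groth.Agent.H15Site.SetDescent

open Groth.Agent.H18Et

variable {X Y : Scheme.{u}} {Ω : Type u} [Field Ω] [IsSepClosed Ω]

/-- The points near which two sections agree. -/
def agree (F : EtDesc.Sh X) {U : X.Etale} (s t : F.obj.obj (op U)) : Set U.left :=
  {u | ∃ (V : X.Etale) (g : V ⟶ U) (v : V.left), g.left.base v = u ∧ F.obj.map g.op s = F.obj.map g.op t}

theorem isOpen_agree (F : EtDesc.Sh X) {U : X.Etale} (s t : F.obj.obj (op U)) : IsOpen (agree F s t) := by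
  refine isOpen_iff_forall_mem_open.2 ?_
  rintro _ ⟨V, g, v, rfl, h⟩
  haveI := etale_left g
  exact ⟨Set.range g.left.base, fun _ ⟨v', hv'⟩ => ⟨V, g, v', hv', h⟩, g.left.isOpenMap.isOpen_range, v, rfl⟩

theorem germ_eq_iff_mem_agree {ξ : Spec (CommRingCat.of Ω) ⟶ X} (F : EtDesc.Sh X) {U : X.Etale}
    (z : (Scheme.pointSmallEtale ξ).fiber.obj U) (s t : F.obj.obj (op U)) :
    germ ξ F U z s = germ ξ F U z t ↔ ptOf z ∈ agree F s t := by
  constructor
  · intro h
    obtain ⟨V, g, y, hy, he⟩ := (germ_eq_iff ξ F U z s t).1 h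
    exact ⟨V, g, ptOf y, (ptOf_map g y).trans (congrArg ptOf hy), he⟩
  · rintro ⟨V, g, v, hv, he⟩
    obtain ⟨y, hy⟩ := exists_fiber_lift g z v hv
    exact (germ_eq_iff ξ F U z s t).2 ⟨V, g, y, hy, he⟩

theorem exists_fiber_geomPt {U : X.Etale} (u : U.left) :
    ∃ (Ω : Type u) (_ : Field Ω) (_ : IsSepClosed Ω) (ξ : Spec (CommRingCat.of Ω) ⟶ X)
      (z : (Scheme.pointSmallEtale ξ).fiber.obj U), ptOf z = u :=
  ⟨_, inferInstance, SeparableClosure.isSepClosed _, geomPt (U.hom.base u), exists_fiber_over u _ (geomPt_base _)⟩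

theorem eq_of_agree_eq_univ (F : EtDesc.Sh X) {U : X.Etale} (s t : F.obj.obj (op U))
    (h : ∀ u : U.left, u ∈ agree F s t) : s = t :=
  sect_ext (F := F) (U := U) s t fun _ _ _ _ z => (germ_eq_iff_mem_agree F z s t).2 (h (ptOf z))

theorem germ_map (F : EtDesc.Sh X) {ξ : Spec (CommRingCat.of Ω) ⟶ X} {U V : X.Etale} (g : V ⟶ U)
    (y : (Scheme.pointSmallEtale ξ).fiber.obj V) (s : F.obj.obj (op U)) :
    germ ξ F V y (F.obj.map g.op s) = germ ξ F U ((Scheme.pointSmallEtale ξ).fiber.map g y) s :=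
  (Scheme.pointSmallEtale ξ).toPresheafFiber_w_apply g y F.obj s

theorem mem_agree_map (F : EtDesc.Sh X) {U V : X.Etale} (g : V ⟶ U) (s t : F.obj.obj (op U)) (v : V.left) :
    v ∈ agree F (F.obj.map g.op s) (F.obj.map g.op t) ↔ g.left.base v ∈ agree F s t := by
  obtain ⟨Ω, _, _, ξ, z, rfl⟩ := exists_fiber_geomPt v
  rw [← germ_eq_iff_mem_agree, germ_map, germ_map, germ_eq_iff_mem_agree, ptOf_map]

theorem mem_agree_iso {F G : EtDesc.Sh X} (e : F ≅ G) {U : X.Etale} (s t : F.obj.obj (op U)) (u : U.left) :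
    u ∈ agree G (e.hom.hom.app (op U) s) (e.hom.hom.app (op U) t) ↔ u ∈ agree F s t := by
  obtain ⟨Ω, _, _, ξ, z, rfl⟩ := exists_fiber_geomPt u
  rw [← germ_eq_iff_mem_agree, ← germ_eq_iff_mem_agree, ← germ_naturality, ← germ_naturality]
  exact ((isIso_iff_bijective _).1 (inferInstance :
    IsIso ((Scheme.pointSmallEtale ξ).sheafFiber.map e.hom))).1.eq_iff

/-- The image of a point of the base-changed fibre. -/
theorem fst_ptOf (f : X ⟶ Y) (ξ : Spec (CommRingCat.of Ω) ⟶ X) (V : Y.Etale)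
    (v : (Scheme.pointSmallEtale (ξ ≫ f)).fiber.obj V) :
    (pullback.fst V.hom f).base (ptOf ((fiberCompIso f ξ).inv.app V v)) = ptOf v :=
  congrArg (fun q : Spec (CommRingCat.of Ω) ⟶ V.left => q.base default) (fiberCompIso_inv_left f ξ V v)

theorem surjective_fiberCompIso_inv (f : X ⟶ Y) (ξ : Spec (CommRingCat.of Ω) ⟶ X) (V : Y.Etale) :
    Function.Surjective ((fiberCompIso f ξ).inv.app V) :=
  ((isIso_iff_bijective _).1 (inferInstance : IsIso ((fiberCompIso f ξ).inv.app V))).2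

set_option maxHeartbeats 800000 in
theorem exists_fiber_comp (f : X ⟶ Y) {V : Y.Etale} (v' : ((EtCoh.bc f).obj V).left) :
    ∃ (Ω : Type u) (_ : Field Ω) (_ : IsSepClosed Ω) (ξ : Spec (CommRingCat.of Ω) ⟶ X)
      (v : (Scheme.pointSmallEtale (ξ ≫ f)).fiber.obj V), ptOf ((fiberCompIso f ξ).inv.app V v) = v' := by
  obtain ⟨Ω, h₁, h₂, ξ, z, hz⟩ := exists_fiber_geomPt (U := (EtCoh.bc f).obj V) v'
  obtain ⟨v, hv⟩ := surjective_fiberCompIso_inv f ξ V z
  exact ⟨Ω, h₁, h₂, ξ, v, by rw [hv]; exact hz⟩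

/-- Inverse image of sections. -/
noncomputable abbrev pullSect (f : X ⟶ Y) (G : EtDesc.Sh Y) {U : Y.Etale} (s : G.obj.obj (op U)) :
    ((EtDesc.pullSh f).obj G).obj.obj (op ((EtCoh.bc f).obj U)) :=
  ((EtDesc.adjSh f).unit.app G).hom.app (op U) s

theorem pullSect_map (f : X ⟶ Y) (G : EtDesc.Sh Y) {U V : Y.Etale} (g : V ⟶ U) (s : G.obj.obj (op U)) :
    pullSect f G (G.obj.map g.op s) =
      ((EtDesc.pullSh f).obj G).obj.map ((EtCoh.bc f).map g).op (pullSect f G s) :=
  ConcreteCategory.congr_hom (((EtDesc.adjSh f).unit.app G).hom.naturality g.op) s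

theorem pullSect_naturality (f : X ⟶ Y) {G G' : EtDesc.Sh Y} (φ : G ⟶ G') {U : Y.Etale} (s : G.obj.obj (op U)) :
    ((EtDesc.pullSh f).map φ).hom.app (op ((EtCoh.bc f).obj U)) (pullSect f G s) =
      pullSect f G' (φ.hom.app (op U) s) :=
  (ConcreteCategory.congr_hom (congr_app (congrArg (fun t => t.hom) ((EtDesc.adjSh f).unit.naturality φ)) (op U)) s).symm

theorem germ_pullSect (f : X ⟶ Y) (G : EtDesc.Sh Y) (ξ : Spec (CommRingCat.of Ω) ⟶ X) {U : Y.Etale}
    (v : (Scheme.pointSmallEtale (ξ ≫ f)).fiber.obj U) (s : G.obj.obj (op U)) :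
    germ ξ ((EtDesc.pullSh f).obj G) _ ((fiberCompIso f ξ).inv.app U v) (pullSect f G s) =
      (stalkPullShIso f ξ).inv.app G (germ (ξ ≫ f) G U v s) :=
  (stalkPullShIso_inv_germ f ξ G U v s).symm

theorem mem_agree_pullSect (f : X ⟶ Y) (G : EtDesc.Sh Y) {U : Y.Etale} (s t : G.obj.obj (op U))
    (v' : ((EtCoh.bc f).obj U).left) :
    v' ∈ agree _ (pullSect f G s) (pullSect f G t) ↔ (pullback.fst U.hom f).base v' ∈ agree G s t := by
  obtain ⟨Ω, _, _, ξ, v, rfl⟩ := exists_fiber_comp f v'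
  rw [← germ_eq_iff_mem_agree, fst_ptOf, ← germ_eq_iff_mem_agree, germ_pullSect, germ_pullSect]
  exact ((isIso_iff_bijective _).1 (inferInstance : IsIso ((stalkPullShIso f ξ).inv.app G))).1.eq_iff

/-- Sections of a sheaf are determined by their inverse images along a surjective morphism. -/
theorem pullSect_injective (f : X ⟶ Y) [Surjective f] (G : EtDesc.Sh Y) (U : Y.Etale) :
    Function.Injective (pullSect f G (U := U)) := fun s t h => by
  refine eq_of_agree_eq_univ G s t fun u => ?_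
  obtain ⟨x', hx'⟩ := f.surjective (U.hom.base u)
  obtain ⟨v', hv', -⟩ := Scheme.Pullback.exists_preimage_pullback (f := U.hom) (g := f) u x' hx'.symm
  rw [← hv', ← mem_agree_pullSect f G s t v', h]
  exact ⟨_, 𝟙 _, v', rfl, rfl⟩

end Groth.Agent.H15Site.SetDescent
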