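import Groth.Agent.H15Site.SetDescent.Lift
import Mathlib.CategoryTheory.Sites.LeftExact

/-!
# Descent of subsheaves along universally submersive morphisms
-/

set_option autoImplicit false
set_option linter.unusedSectionVars false
set_option linter.style.haveILetI false
set_option backward.isDefEq.respectTransparency false
set_option backward.isDefEq.respectTransparency.types false
set_option maxHeartbeats 800000

universe u

open CategoryTheory CategoryTheory.Limits AlgebraicGeometry Opposite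
open scoped Groth.Agent.H18Et

namespace Groth.Agent.H15Site.SetDescent

open Groth.Agent.H18Et

variable {T X X' : Scheme.{u}} (f : X' ⟶ X) {Ω : Type u} [Field Ω] [IsSepClosed Ω]

theorem stalk_injective {Z : Scheme.{u}} {G F : EtDesc.Sh Z} (a : G ⟶ F) [Mono a]
    (ξ : Spec (CommRingCat.of Ω) ⟶ Z) : Function.Injective ((Scheme.pointSmallEtale ξ).sheafFiber.map a) :=
  (mono_iff_stalkSh a).1 inferInstance Ω ξ

theorem exists_stalk_pullback {Z : Scheme.{u}} {A B C : EtDesc.Sh Z} (a : A ⟶ C) (b : B ⟶ C)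
    (ξ : Spec (CommRingCat.of Ω) ⟶ Z) (x : (Scheme.pointSmallEtale ξ).sheafFiber.obj A)
    (y : (Scheme.pointSmallEtale ξ).sheafFiber.obj B)
    (h : (Scheme.pointSmallEtale ξ).sheafFiber.map a x = (Scheme.pointSmallEtale ξ).sheafFiber.map b y) :
    ∃ z, (Scheme.pointSmallEtale ξ).sheafFiber.map (pullback.fst a b) z = x := by
  obtain ⟨z, hz, -⟩ := Types.exists_of_isPullback
    ((IsPullback.of_hasPullback a b).map (Scheme.pointSmallEtale ξ).sheafFiber) x y h
  exact ⟨z, hz⟩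

theorem exists_geomPt_over [Surjective f] (x : X) : ∃ (Ω : Type u) (_ : Field Ω) (_ : IsSepClosed Ω)
    (ξ : Spec (CommRingCat.of Ω) ⟶ X'), (ξ ≫ f).base default = x := by
  obtain ⟨x', rfl⟩ := f.surjective x
  refine ⟨_, inferInstance, SeparableClosure.isSepClosed _, geomPt x', ?_⟩
  rw [Scheme.Hom.comp_apply, geomPt_base]

theorem stalk_range_of_pull {G₁ G₂ F : EtDesc.Sh X} (a₁ : G₁ ⟶ F) (a₂ : G₂ ⟶ F)
    (φ : (EtDesc.pullSh f).obj G₁ ⟶ (EtDesc.pullSh f).obj G₂)
    (hφ : φ ≫ (EtDesc.pullSh f).map a₂ = (EtDesc.pullSh f).map a₁) (ξ : Spec (CommRingCat.of Ω) ⟶ X')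
    (c : (Scheme.pointSmallEtale (ξ ≫ f)).sheafFiber.obj G₁) :
    ∃ d, (Scheme.pointSmallEtale (ξ ≫ f)).sheafFiber.map a₁ c =
      (Scheme.pointSmallEtale (ξ ≫ f)).sheafFiber.map a₂ d := by
  let P := (Scheme.pointSmallEtale ξ).sheafFiber (A := Type (u + 1))
  obtain ⟨d, hd⟩ := ((isIso_iff_bijective _).1 (inferInstance : IsIso ((stalkPullShIso f ξ).inv.app G₂))).2
    (P.map φ ((stalkPullShIso f ξ).inv.app G₁ c))
  refine ⟨d, ((isIso_iff_bijective _).1 (inferInstance : IsIso ((stalkPullShIso f ξ).inv.app F))).1 ?_⟩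
  rw [← stalk_pull_naturality, ← stalk_pull_naturality, hd, ← hφ, Functor.map_comp]
  rfl

/-- Subsheaves are determined by their inverse images. -/
theorem subsheaf_ext [Surjective f] {G₁ G₂ F : EtDesc.Sh X} (a₁ : G₁ ⟶ F) (a₂ : G₂ ⟶ F) [Mono a₁] [Mono a₂]
    (φ : (EtDesc.pullSh f).obj G₁ ≅ (EtDesc.pullSh f).obj G₂)
    (hφ : φ.hom ≫ (EtDesc.pullSh f).map a₂ = (EtDesc.pullSh f).map a₁) : ∃ ψ : G₁ ≅ G₂, ψ.hom ≫ a₂ = a₁ := by
  have hφ' : φ.inv ≫ (EtDesc.pullSh f).map a₁ = (EtDesc.pullSh f).map a₂ := by rw [← hφ, Iso.inv_hom_id_assoc]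
  haveI : Epi (pullback.fst a₁ a₂) := epi_of_stalkSh _ fun x => by
    obtain ⟨Ω, hK, hS, ξ, hξ⟩ := exists_geomPt_over f x
    refine ⟨Ω, hK, hS, ξ ≫ f, hξ, fun c => ?_⟩
    obtain ⟨d, hd⟩ := stalk_range_of_pull f a₁ a₂ φ.hom hφ ξ c
    exact exists_stalk_pullback a₁ a₂ (ξ ≫ f) c d hd
  haveI : Epi (pullback.snd a₁ a₂) := epi_of_stalkSh _ fun x => by
    obtain ⟨Ω, hK, hS, ξ, hξ⟩ := exists_geomPt_over f x
    refine ⟨Ω, hK, hS, ξ ≫ f, hξ, fun c => ?_⟩
    obtain ⟨d, hd⟩ := stalk_range_of_pull f a₂ a₁ φ.inv hφ' ξ c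
    obtain ⟨z, hz⟩ := exists_stalk_pullback a₂ a₁ (ξ ≫ f) c d hd
    refine ⟨(Scheme.pointSmallEtale (ξ ≫ f)).sheafFiber.map (pullbackSymmetry a₁ a₂).inv z, ?_⟩
    rw [← hz, ← pullbackSymmetry_inv_comp_snd a₁ a₂, Functor.map_comp]
    rfl
  haveI := isIso_of_mono_of_epi (pullback.fst a₁ a₂)
  haveI := isIso_of_mono_of_epi (pullback.snd a₁ a₂)
  refine ⟨(asIso (pullback.fst a₁ a₂)).symm ≪≫ asIso (pullback.snd a₁ a₂), ?_⟩
  rw [Iso.trans_hom, Iso.symm_hom, asIso_inv, asIso_hom, Category.assoc, ← pullback.condition,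
    IsIso.inv_hom_id_assoc]

theorem liftLocus_saturated {p₁ p₂ : T ⟶ X'} {q : T ⟶ X} (w₁ : p₁ ≫ f = q) (w₂ : p₂ ≫ f = q) {F : EtDesc.Sh X}
    {G' : EtDesc.Sh X'} (a : G' ⟶ (EtDesc.pullSh f).obj F)
    (φ : (EtDesc.pullSh p₁).obj G' ≅ (EtDesc.pullSh p₂).obj G')
    (hφ : φ.hom ≫ (EtDesc.pullSh p₂).map a ≫ (EtDesc.pullVia p₂ f q w₂ F).hom =
      (EtDesc.pullSh p₁).map a ≫ (EtDesc.pullVia p₁ f q w₁ F).hom)
    (W : X.Etale) (t : F.obj.obj (op W)) (u : ((EtCoh.bc q).obj W).left) :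
    (pullback.fst ((EtCoh.bc f).obj W).hom p₁).base ((tm p₁ f q w₁ W).left.base u) ∈ liftLocus a (pullSect f F t) ↔
      (pullback.fst ((EtCoh.bc f).obj W).hom p₂).base ((tm p₂ f q w₂ W).left.base u) ∈
        liftLocus a (pullSect f F t) := by
  have key : ∀ (p : T ⟶ X') (w : p ≫ f = q),
      (pullback.fst ((EtCoh.bc f).obj W).hom p).base ((tm p f q w W).left.base u) ∈ liftLocus a (pullSect f F t) ↔
        u ∈ liftLocus ((EtDesc.pullSh p).map a ≫ (EtDesc.pullVia p f q w F).hom) (pullSect q F t) := fun p w => by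
    rw [← transfer_pullSect p f q w F t]
    unfold transfer
    rw [mem_liftLocus_map, mem_liftLocus_comp_iso, mem_liftLocus_pullSect]
  rw [key, key]
  exact mem_liftLocus_congr φ _ _ hφ _ u

theorem comm_of_can {p₁ p₂ : T ⟶ X'} {q : T ⟶ X} (w₁ : p₁ ≫ f = q) (w₂ : p₂ ≫ f = q) {F : EtDesc.Sh X}
    {G' : EtDesc.Sh X'} (a : G' ⟶ (EtDesc.pullSh f).obj F)
    (φ : (EtDesc.pullSh p₁).obj G' ≅ (EtDesc.pullSh p₂).obj G')
    (cF : (EtDesc.pullSh p₁).obj ((EtDesc.pullSh f).obj F) ⟶ (EtDesc.pullSh p₂).obj ((EtDesc.pullSh f).obj F))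
    (hF : cF = (EtDesc.pullVia p₁ f q w₁ F).hom ≫ (EtDesc.pullVia p₂ f q w₂ F).inv)
    (h : φ.hom ≫ (EtDesc.pullSh p₂).map a = (EtDesc.pullSh p₁).map a ≫ cF) :
    φ.hom ≫ (EtDesc.pullSh p₂).map a ≫ (EtDesc.pullVia p₂ f q w₂ F).hom =
      (EtDesc.pullSh p₁).map a ≫ (EtDesc.pullVia p₁ f q w₁ F).hom := by
  rw [← Category.assoc, h, hF, Category.assoc, Category.assoc, Iso.inv_hom_id, Category.comp_id]

theorem adj_symm_comp {C D : Type*} [Category C] [Category D] {L : C ⥤ D} {R : D ⥤ C} (adj : L ⊣ R) {G F : C}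
    {G' : D} (a : G ⟶ F) (a' : G' ⟶ L.obj F) (s : G ⟶ R.obj G') (h : a ≫ adj.unit.app F = s ≫ R.map a') :
    (adj.homEquiv G G').symm s ≫ a' = L.map a := by
  rw [← Adjunction.homEquiv_naturality_right_symm, ← h]
  simp [Adjunction.homEquiv_counit]

theorem germ_comp {Z : Scheme.{u}} {G F : EtDesc.Sh Z} (a : G ⟶ F) (ξ : Spec (CommRingCat.of Ω) ⟶ Z) {U : Z.Etale}
    (z : (Scheme.pointSmallEtale ξ).fiber.obj U) (r : G.obj.obj (op U)) :
    (Scheme.pointSmallEtale ξ).sheafFiber.map a (germ ξ G U z r) = germ ξ F U z (a.hom.app (op U) r) :=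
  germ_naturality ξ a U z r

theorem exists_pullback_sect {Z : Scheme.{u}} {A B C : EtDesc.Sh Z} (a : A ⟶ C) (b : B ⟶ C) (U : Z.Etale)
    (x : A.obj.obj (op U)) (y : B.obj.obj (op U)) (h : a.hom.app (op U) x = b.hom.app (op U) y) :
    ∃ z : (pullback a b).obj.obj (op U), (pullback.fst a b).hom.app (op U) z = x := by
  obtain ⟨z, hz, -⟩ := Types.exists_of_isPullback (((IsPullback.of_hasPullback a b).map
    (sheafToPresheaf _ _)).map ((evaluation _ _).obj (op U))) x y h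
  exact ⟨z, hz⟩

/-- **Effectivity of descent for subsheaves.** -/
theorem subsheaf_descent (hf : EtDesc.IsUnivSubmersive f) {F : EtDesc.Sh X} {G' : EtDesc.Sh X'}
    (a' : G' ⟶ (EtDesc.pullSh f).obj F) [Mono a']
    (φ : (EtDesc.pullSh (pullback.fst f f)).obj G' ≅ (EtDesc.pullSh (pullback.snd f f)).obj G')
    (hφ : φ.hom ≫ (EtDesc.pullSh (pullback.snd f f)).map a' =
      (EtDesc.pullSh (pullback.fst f f)).map a' ≫ (EtDesc.canIso f F).hom) :
    ∃ (G : EtDesc.Sh X) (a : G ⟶ F) (_ : Mono a) (ψ : (EtDesc.pullSh f).obj G ≅ G'),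
      ψ.hom ≫ a' = (EtDesc.pullSh f).map a := by
  haveI := surjective_of_univSubmersive hf
  have hφ' := comm_of_can f (q := q₀ f) rfl pullback.condition.symm a' φ (EtDesc.canIso f F).hom
    (by rw [EtDesc.canIso, Iso.trans_hom, Iso.symm_hom]) hφ
  haveI : (EtDesc.pushSh f).PreservesMonomorphisms :=
    Functor.preservesMonomorphisms_of_adjunction (EtDesc.adjSh f)
  let η₀ : F ⟶ (EtDesc.pushSh f).obj ((EtDesc.pullSh f).obj F) := (EtDesc.adjSh f).unit.app F
  let a := pullback.fst η₀ ((EtDesc.pushSh f).map a')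
  let β := ((EtDesc.adjSh f).homEquiv _ G').symm (pullback.snd η₀ ((EtDesc.pushSh f).map a'))
  have hβ : β ≫ a' = (EtDesc.pullSh f).map a := adj_symm_comp (EtDesc.adjSh f) a a' _ pullback.condition
  haveI : Mono ((EtDesc.pullSh f).map a) := (mono_iff_stalkSh _).2 fun Ω _ _ ξ x y h => by
    obtain ⟨x, rfl⟩ := ((isIso_iff_bijective _).1
      (inferInstance : IsIso ((stalkPullShIso f ξ).inv.app (pullback η₀ ((EtDesc.pushSh f).map a'))))).2 x
    obtain ⟨y, rfl⟩ := ((isIso_iff_bijective _).1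
      (inferInstance : IsIso ((stalkPullShIso f ξ).inv.app (pullback η₀ ((EtDesc.pushSh f).map a'))))).2 y
    rw [stalk_pull_naturality, stalk_pull_naturality] at h
    exact congrArg _ (stalk_injective a (ξ ≫ f)
      (((isIso_iff_bijective _).1 (inferInstance : IsIso ((stalkPullShIso f ξ).inv.app F))).1 h))
  haveI : Mono β := by
    haveI : Mono (β ≫ a') := by rw [hβ]; infer_instance
    exact mono_of_mono β a'
  haveI : Epi β := epi_of_stalkSh β fun x' => ⟨_, inferInstance, SeparableClosure.isSepClosed _, geomPt x',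
    geomPt_base x', fun c => by
    have := SeparableClosure.isSepClosed (X'.residueField x')
    obtain ⟨d, hd⟩ := ((isIso_iff_bijective _).1
      (inferInstance : IsIso ((stalkPullShIso f (geomPt x')).inv.app F))).2
      ((Scheme.pointSmallEtale (geomPt x')).sheafFiber.map a' c)
    obtain ⟨W, w, t, rfl⟩ := germ_surjective (geomPt x' ≫ f) F d
    rw [← germ_pullSect] at hd
    have hmem := (germ_mem_range_iff a' _ (pullSect f F t)).1 ⟨c, hd.symm⟩
    have hsat : ∀ u₁ u₂ : ((EtCoh.bc f).obj W).left, (pullback.fst W.hom f).base u₁ = (pullback.fst W.hom f).base u₂ →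
        u₁ ∈ liftLocus a' (pullSect f F t) → u₂ ∈ liftLocus a' (pullSect f F t) := fun u₁ u₂ h h₁ => by
      obtain ⟨u, hu₁, hu₂⟩ := exists_pair f W u₁ u₂ h
      have k₁ : (pullback.fst ((EtCoh.bc f).obj W).hom (pullback.fst f f)).base
          ((tm (pullback.fst f f) f (q₀ f) rfl W).left.base u) = u₁ :=
        (congrArg (fun q : pullback W.hom (q₀ f) ⟶ pullback W.hom f => q.base u)
          (fst_fst_transferMor W (pullback.fst f f) f (q₀ f) rfl)).trans hu₁
      have k₂ : (pullback.fst ((EtCoh.bc f).obj W).hom (pullback.snd f f)).base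
          ((tm (pullback.snd f f) f (q₀ f) pullback.condition.symm W).left.base u) = u₂ :=
        (congrArg (fun q : pullback W.hom (q₀ f) ⟶ pullback W.hom f => q.base u)
          (fst_fst_transferMor W (pullback.snd f f) f (q₀ f) pullback.condition.symm)).trans hu₂
      exact k₂ ▸ (liftLocus_saturated f rfl pullback.condition.symm a' φ hφ' W t u).1 (k₁.symm ▸ h₁)
    let O : W.left.Opens := ⟨_, isOpen_image hf W _ (isOpen_liftLocus a' (pullSect f F t)) hsat⟩
    obtain ⟨w', hw'⟩ := exists_fiber_lift (ξ := geomPt x' ≫ f) (openHom O) w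
      ⟨ptOf w, ⟨_, hmem, fst_ptOf f (geomPt x') W w⟩⟩ rfl
    obtain ⟨r, hr⟩ := exists_lift_of_liftLocus a' (pullSect f F (F.obj.map (openHom O).op t)) fun o => by
      rw [pullSect_map, mem_liftLocus_map]
      obtain ⟨u'', hu'', hu'''⟩ := Eq.mpr (congrArg (· ∈ (O : Set W.left)) (bc_map_base_fst f (openHom O) o))
        ((pullback.fst (openObj O).hom f).base o).2
      exact hsat _ _ hu''' hu''
    obtain ⟨z, hz⟩ := exists_pullback_sect η₀ ((EtDesc.pushSh f).map a') (openObj O) (F.obj.map (openHom O).op t) r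
      hr.symm
    refine ⟨(stalkPullShIso f (geomPt x')).inv.app _ (germ (geomPt x' ≫ f) (pullback η₀ ((EtDesc.pushSh f).map a')) (openObj O) w' z),
      stalk_injective a' _ ?_⟩
    rw [← ConcreteCategory.comp_apply, ← Functor.map_comp, hβ]
    refine (stalk_pull_naturality f (geomPt x') a _).trans (Eq.trans ?_ hd)
    refine Eq.trans ?_ (germ_pullSect f F (geomPt x') w t).symm
    refine congrArg _ ?_
    rw [germ_comp, hz, germ_map, hw']⟩
  haveI := isIso_of_mono_of_epi β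
  exact ⟨_, a, inferInstance, asIso β, hβ⟩

end Groth.Agent.H15Site.SetDescent
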